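import Mathlib

/-!
# Formal dimension-shifting bootstrap (helper9)

Given an object function `K : C → C` with (non-functorial) action `κ` on morphisms, and two families
of functors `F, F' : ℕ → (C ⥤ D)` both equipped with "shift data" relative to a functor `G`
(`F 0 X ≅ Z X ↪ G (K X)` and `F (n+1) X ≅ F n (K X)`, natural w.r.t. `κ`), the two families are
isomorphic.
-/

universe v v' u u'

open CategoryTheory Limits

namespace Groth.Agent.Helper9.Bal

variable {C : Type u} [Category.{v} C] {D : Type u'} [Category.{v'} D]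

/-- Shift data for a family of functors. -/
structure ShiftData (K : C → C) (κ : ∀ {X X' : C}, (X ⟶ X') → (K X ⟶ K X'))
    (G : C ⥤ D) (Z : C → D) (m : ∀ X, Z X ⟶ G.obj (K X)) (F : ℕ → (C ⥤ D)) where
  o : ∀ X, (F 0).obj X ≅ Z X
  o_nat : ∀ {X X' : C} (f : X ⟶ X'),
    (F 0).map f ≫ (o X').hom ≫ m X' = (o X).hom ≫ m X ≫ G.map (κ f)
  s : ∀ (n : ℕ) (X : C), (F (n + 1)).obj X ≅ (F n).obj (K X)
  s_nat : ∀ (n : ℕ) {X X' : C} (f : X ⟶ X'),
    (F (n + 1)).map f ≫ (s n X').hom = (s n X).hom ≫ (F n).map (κ f)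

namespace ShiftData

variable {K : C → C} {κ : ∀ {X X' : C}, (X ⟶ X') → (K X ⟶ K X')}
  {G : C ⥤ D} {Z : C → D} {m : ∀ X, Z X ⟶ G.obj (K X)} [∀ X, Mono (m X)]
  {F F' : ℕ → (C ⥤ D)}

/-- The bootstrap isomorphisms. -/
noncomputable def boot (A : ShiftData K κ G Z m F) (B : ShiftData K κ G Z m F') :
    ∀ n : ℕ, F n ≅ F' n
  | 0 => NatIso.ofComponents (fun X => A.o X ≪≫ (B.o X).symm) (by
      intro X X' f
      dsimp
      rw [← cancel_mono (B.o X').hom, ← cancel_mono (m X')]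
      simp only [Category.assoc, Iso.inv_hom_id_assoc]
      rw [A.o_nat f, B.o_nat f]
      simp)
  | (n + 1) => NatIso.ofComponents
      (fun X => A.s n X ≪≫ (boot A B n).app (K X) ≪≫ (B.s n X).symm) (by
      intro X X' f
      dsimp
      rw [← cancel_mono (B.s n X').hom]
      simp only [Category.assoc, Iso.inv_hom_id, Category.comp_id]
      rw [B.s_nat n f, Iso.inv_hom_id_assoc, reassoc_of% (A.s_nat n f)]
      congr 1
      exact (boot A B n).hom.naturality (κ f))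

lemma boot_zero_hom_app (A : ShiftData K κ G Z m F) (B : ShiftData K κ G Z m F') (X : C) :
    (boot A B 0).hom.app X = (A.o X).hom ≫ (B.o X).inv := rfl

lemma boot_succ_hom_app (A : ShiftData K κ G Z m F) (B : ShiftData K κ G Z m F') (n : ℕ)
    (X : C) :
    (boot A B (n + 1)).hom.app X =
      (A.s n X).hom ≫ (boot A B n).hom.app (K X) ≫ (B.s n X).inv := rfl

section Nat
variable {G₂ : C ⥤ D} {Z₂ : C → D} {m₂ : ∀ X, Z₂ X ⟶ G₂.obj (K X)} [∀ X, Mono (m₂ X)]
  {F₂ F₂' : ℕ → (C ⥤ D)}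

/-- naturality of the bootstrap isomorphisms w.r.t. morphisms of shift data -/
theorem boot_nat (A : ShiftData K κ G Z m F) (B : ShiftData K κ G Z m F')
    (A₂ : ShiftData K κ G₂ Z₂ m₂ F₂) (B₂ : ShiftData K κ G₂ Z₂ m₂ F₂')
    (γ : G ⟶ G₂) (a : ∀ n, F n ⟶ F₂ n) (b : ∀ n, F' n ⟶ F₂' n)
    (hAo : ∀ X, (a 0).app X ≫ (A₂.o X).hom ≫ m₂ X = (A.o X).hom ≫ m X ≫ γ.app (K X))
    (hBo : ∀ X, (b 0).app X ≫ (B₂.o X).hom ≫ m₂ X = (B.o X).hom ≫ m X ≫ γ.app (K X))
    (hAs : ∀ n X, (a (n + 1)).app X ≫ (A₂.s n X).hom = (A.s n X).hom ≫ (a n).app (K X))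
    (hBs : ∀ n X, (b (n + 1)).app X ≫ (B₂.s n X).hom = (B.s n X).hom ≫ (b n).app (K X)) :
    ∀ n, a n ≫ (boot A₂ B₂ n).hom = (boot A B n).hom ≫ b n := by
  intro n
  induction n with
  | zero =>
    ext X
    rw [NatTrans.comp_app, NatTrans.comp_app, boot_zero_hom_app, boot_zero_hom_app]
    rw [← cancel_mono (B₂.o X).hom, ← cancel_mono (m₂ X)]
    simp only [Category.assoc, Iso.inv_hom_id_assoc]
    rw [hAo X, hBo X]
    simp
  | succ n ih =>
    ext X
    rw [NatTrans.comp_app, NatTrans.comp_app, boot_succ_hom_app, boot_succ_hom_app]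
    have h1 : (b n).app (K X) ≫ (B₂.s n X).inv = (B.s n X).inv ≫ (b (n + 1)).app X := by
      rw [← cancel_mono (B₂.s n X).hom, Category.assoc, Iso.inv_hom_id, Category.comp_id,
        Category.assoc, hBs n X, Iso.inv_hom_id_assoc]
    have h2 : (a n).app (K X) ≫ (boot A₂ B₂ n).hom.app (K X) =
        (boot A B n).hom.app (K X) ≫ (b n).app (K X) := by
      rw [← NatTrans.comp_app, ih, NatTrans.comp_app]
    rw [← Category.assoc, hAs n X, Category.assoc, reassoc_of% h2, h1]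
    simp only [Category.assoc]

end Nat

end ShiftData

end Groth.Agent.Helper9.Bal
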