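import Mathlib
import Groth.Agent.Lib.Helper1.TorBal

/-!
# Syzygies of projective resolutions: functoriality w.r.t. lifts (helper9)
-/

universe v v' u u'

open CategoryTheory Limits Groth.Agent.Helper1.TorBal

namespace Groth.Agent.Helper9.Bal

section SyzMap
variable {C : Type u} [Category.{v} C] [Abelian C]
variable {X X' : C} (P : ProjectiveResolution X) (P' : ProjectiveResolution X') (f : X ⟶ X')
  (φ : P.complex ⟶ P'.complex) (comm : φ.f 0 ≫ P'.π.f 0 = P.π.f 0 ≫ f)

/-- map on syzygies induced by a lift -/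
noncomputable def syzMap : syz P ⟶ syz P' :=
  kernel.lift _ (syzι P ≫ φ.f 0) (by
    have h1 : syzι P ≫ φ.f 0 ≫ P'.π.f 0 = syzι P ≫ (P.π.f 0 ≫ f) := congrArg (syzι P ≫ ·) comm
    have h2 : syzι P ≫ (P.π.f 0 ≫ f) = (syzι P ≫ P.π.f 0) ≫ f := (Category.assoc _ _ _).symm
    have h3 : (syzι P ≫ P.π.f 0) ≫ f = 0 := by rw [syzι_π]; exact zero_comp
    exact (Category.assoc _ _ _).trans (h1.trans (h2.trans h3)))

@[reassoc]
lemma syzMap_ι : syzMap P P' f φ comm ≫ syzι P' = syzι P ≫ φ.f 0 := kernel.lift_ι _ _ _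

/-- morphism of the short exact sequences `0 → syz → P₀ → X → 0` -/
noncomputable def syzSCMap : syzSC P ⟶ syzSC P' where
  τ₁ := syzMap P P' f φ comm
  τ₂ := φ.f 0
  τ₃ := f
  comm₁₂ := syzMap_ι P P' f φ comm
  comm₂₃ := comm

@[reassoc]
lemma dLift_syzMap : dLift P ≫ syzMap P P' f φ comm = φ.f 1 ≫ dLift P' := by
  rw [← cancel_mono (syzι P'), Category.assoc, syzMap_ι, dLift_ι_assoc, Category.assoc, dLift_ι,
    φ.comm]

lemma truncRes_π_f_zero : (truncRes P).π.f 0 = dLift P :=
  ChainComplex.toSingle₀Equiv_symm_apply_f_zero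
    (C := ChainComplex.truncate.obj P.complex) (dLift P) (truncate_d_dLift P)

lemma truncate_comm :
    (ChainComplex.truncate.map φ).f 0 ≫ (truncRes P').π.f 0 =
      (truncRes P).π.f 0 ≫ syzMap P P' f φ comm := by
  rw [truncRes_π_f_zero, truncRes_π_f_zero]
  exact (dLift_syzMap P P' f φ comm).symm

end SyzMap

section TruncNat
variable (V : Type u) [Category.{v} V] [Abelian V]

/-- homology of the truncation is shifted homology, naturally -/
noncomputable def truncHomologyNatIso (n : ℕ) :
    ChainComplex.truncate ⋙ HomologicalComplex.homologyFunctor V (ComplexShape.down ℕ) (n + 1) ≅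
      HomologicalComplex.homologyFunctor V (ComplexShape.down ℕ) (n + 2) :=
  Functor.isoWhiskerLeft _
      (HomologicalComplex.homologyFunctorIso' V (ComplexShape.down ℕ) (n + 2) (n + 1) n
        (by simp) (by simp)) ≪≫
    (Functor.associator _ _ _).symm ≪≫
    Functor.isoWhiskerRight
      (NatIso.ofComponents (fun K => Iso.refl _) (by
        intros
        ext <;> exact (Category.comp_id _).trans (Category.id_comp _).symm) :
        ChainComplex.truncate ⋙
            HomologicalComplex.shortComplexFunctor' V (ComplexShape.down ℕ) (n + 2) (n + 1) n ≅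
          HomologicalComplex.shortComplexFunctor' V (ComplexShape.down ℕ) (n + 3) (n + 2) (n + 1))
      (ShortComplex.homologyFunctor V) ≪≫
    (HomologicalComplex.homologyFunctorIso' V (ComplexShape.down ℕ) (n + 3) (n + 2) (n + 1)
      (by simp) (by simp)).symm

end TruncNat

end Groth.Agent.Helper9.Bal
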