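import Mathlib
import Groth.Agent.Lib.Helper9.Bal.Syz

/-!
# Dimension shifting for left derived functors along syzygies of resolutions (helper9)
-/

universe v v' u u'

open CategoryTheory Limits Groth.Agent.Helper1.TorBal

namespace Groth.Agent.Helper9.Bal

variable {C : Type u} [Category.{v} C] [Abelian C]
  {D : Type u'} [Category.{v'} D] [Abelian D] (G : C ⥤ D) [G.Additive]

/-- `G` commutes with truncation. -/
noncomputable def mapTruncIso (K : ChainComplex C ℕ) :
    (G.mapHomologicalComplex _).obj (ChainComplex.truncate.obj K) ≅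
      ChainComplex.truncate.obj ((G.mapHomologicalComplex _).obj K) :=
  HomologicalComplex.Hom.isoOfComponents (fun i => Iso.refl _) (by
    intro i j _
    exact (Category.id_comp _).trans (Category.comp_id _).symm)

lemma mapTruncIso_nat {K K' : ChainComplex C ℕ} (ψ : K ⟶ K') :
    (G.mapHomologicalComplex _).map (ChainComplex.truncate.map ψ) ≫ (mapTruncIso G K').hom =
      (mapTruncIso G K).hom ≫ ChainComplex.truncate.map ((G.mapHomologicalComplex _).map ψ) := by
  ext i
  exact (Category.comp_id _).trans (Category.id_comp _).symm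

variable [HasProjectiveResolutions C]

section Shift
variable {X X' : C} (P : ProjectiveResolution X) (P' : ProjectiveResolution X') (f : X ⟶ X')
  (φ : P.complex ⟶ P'.complex) (comm : φ.f 0 ≫ P'.π.f 0 = P.π.f 0 ≫ f)

/-- the truncated lift, as a map of the truncated resolutions -/
noncomputable def truncResMap (φ : P.complex ⟶ P'.complex) :
    (truncRes P).complex ⟶ (truncRes P').complex :=
  ChainComplex.truncate.map φ

lemma truncResMap_comm :
    (truncResMap P P' φ).f 0 ≫ (truncRes P').π.f 0 =
      (truncRes P).π.f 0 ≫ syzMap P P' f φ comm :=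
  truncate_comm P P' f φ comm

/-- `G` commutes with truncation of a resolution. -/
noncomputable def mapTruncResIso :
    (G.mapHomologicalComplex _).obj (truncRes P).complex ≅
      ChainComplex.truncate.obj ((G.mapHomologicalComplex _).obj P.complex) :=
  mapTruncIso G P.complex

lemma mapTruncResIso_nat :
    (G.mapHomologicalComplex _).map (truncResMap P P' φ) ≫ (mapTruncResIso G P').hom =
      (mapTruncResIso G P).hom ≫ ChainComplex.truncate.map ((G.mapHomologicalComplex _).map φ) :=
  mapTruncIso_nat G φ

/-- `L_{n+2} G (X) ≅ L_{n+1} G (syz P)` -/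
noncomputable def sL (n : ℕ) :
    (G.leftDerived (n + 2)).obj X ≅ (G.leftDerived (n + 1)).obj (syz P) :=
  P.isoLeftDerivedObj G (n + 2) ≪≫
    ((truncHomologyNatIso D n).app ((G.mapHomologicalComplex _).obj P.complex)).symm ≪≫
    ((HomologicalComplex.homologyFunctor D _ (n + 1)).mapIso (mapTruncResIso G P)).symm ≪≫
    ((truncRes P).isoLeftDerivedObj G (n + 1)).symm

lemma sL_nat (n : ℕ) :
    (G.leftDerived (n + 2)).map f ≫ (sL G P' n).hom =
      (sL G P n).hom ≫ (G.leftDerived (n + 1)).map (syzMap P P' f φ comm) := by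
  have h1 := ProjectiveResolution.isoLeftDerivedObj_hom_naturality f P P' φ comm G (n + 2)
  have h2 := ProjectiveResolution.isoLeftDerivedObj_inv_naturality (syzMap P P' f φ comm)
    (truncRes P) (truncRes P') (truncResMap P P' φ) (truncResMap_comm P P' f φ comm) G (n + 1)
  have h3 := (truncHomologyNatIso D n).inv.naturality ((G.mapHomologicalComplex _).map φ)
  have h4 : (HomologicalComplex.homologyFunctor D _ (n + 1)).map
        (ChainComplex.truncate.map ((G.mapHomologicalComplex _).map φ)) ≫
      (HomologicalComplex.homologyFunctor D _ (n + 1)).map (mapTruncResIso G P').inv =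
      (HomologicalComplex.homologyFunctor D _ (n + 1)).map (mapTruncResIso G P).inv ≫
      (HomologicalComplex.homologyFunctor D _ (n + 1)).map
        ((G.mapHomologicalComplex _).map (truncResMap P P' φ)) := by
    rw [← Functor.map_comp, ← Functor.map_comp]
    congr 1
    rw [← cancel_mono (mapTruncResIso G P').hom, Category.assoc, Iso.inv_hom_id,
      Category.comp_id, Category.assoc, mapTruncResIso_nat, Iso.inv_hom_id_assoc]
  simp only [sL, Iso.trans_hom, Iso.symm_hom, Functor.mapIso_inv, Iso.app_inv, Category.assoc]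
  simp only [Functor.comp_map] at h1 h2 h3
  rw [h2, reassoc_of% h1, reassoc_of% h3, reassoc_of% h4]

end Shift

section One
variable [PreservesFiniteColimits G]
variable {X X' : C} (P : ProjectiveResolution X) (P' : ProjectiveResolution X') (f : X ⟶ X')
  (φ : P.complex ⟶ P'.complex) (comm : φ.f 0 ≫ P'.π.f 0 = P.π.f 0 ≫ f)

lemma map_d_map_dLift : G.map (P.complex.d 2 1) ≫ G.map (dLift P) = 0 := by
  rw [← G.map_comp, d_dLift, G.map_zero]

/-- `G(dLift)` is a cokernel of `G(d₂)` -/
noncomputable def isColimitMapDLift :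
    IsColimit (CokernelCofork.ofπ (G.map (dLift P)) (map_d_map_dLift G P)) := by
  haveI : Epi (ShortComplex.mk (P.complex.d 2 1) (dLift P) (d_dLift P)).g := epi_dLift P
  exact CokernelCofork.mapIsColimit _ ((exact_d_dLift P).gIsCokernel) G

/-- the short complex `G P₂ ⟶ G P₁ ⟶ G P₀` -/
noncomputable abbrev scOne : ShortComplex D :=
  ((G.mapHomologicalComplex (ComplexShape.down ℕ)).obj P.complex).sc' 2 1 0

lemma desc_eq :
    (isColimitMapDLift G P).desc (CokernelCofork.ofπ (scOne G P).g (scOne G P).zero) =
      G.map (syzι P) := by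
  apply Cofork.IsColimit.hom_ext (isColimitMapDLift G P)
  refine (Cofork.IsColimit.π_desc (isColimitMapDLift G P)).trans ?_
  show G.map (P.complex.d 1 0) = G.map (dLift P) ≫ G.map (syzι P)
  rw [← G.map_comp, dLift_ι]

/-- right homology data of `scOne` with `H = ker (G (syzι))` -/
noncomputable def rhdOne : (scOne G P).RightHomologyData where
  Q := G.obj (syz P)
  H := kernel (G.map (syzι P))
  p := G.map (dLift P)
  ι := kernel.ι _
  wp := map_d_map_dLift G P
  hp := isColimitMapDLift G P
  wι := (congrArg (kernel.ι (G.map (syzι P)) ≫ ·) (desc_eq G P)).trans (kernel.condition _)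
  hι := by
    have key : ∀ (g' : G.obj (syz P) ⟶ (scOne G P).X₃) (_ : g' = G.map (syzι P))
        (w : kernel.ι (G.map (syzι P)) ≫ g' = 0),
        IsLimit (KernelFork.ofι (kernel.ι (G.map (syzι P))) w) := by
      rintro _ rfl w
      exact kernelIsKernel _
    exact key _ (desc_eq G P) _

lemma rhdOne_g' : (rhdOne G P).g' = G.map (syzι P) := desc_eq G P

/-- the map of short complexes induced by a lift -/
noncomputable abbrev scOneMap : scOne G P ⟶ scOne G P' :=
  (HomologicalComplex.shortComplexFunctor' D (ComplexShape.down ℕ) 2 1 0).map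
    ((G.mapHomologicalComplex (ComplexShape.down ℕ)).map φ)

lemma map_syzι_comm :
    G.map (syzι P) ≫ G.map (φ.f 0) = G.map (syzMap P P' f φ comm) ≫ G.map (syzι P') := by
  rw [← G.map_comp, ← G.map_comp, syzMap_ι]

/-- right homology map data -/
noncomputable def rhmdOne : ShortComplex.RightHomologyMapData (scOneMap G P P' φ)
    (rhdOne G P) (rhdOne G P') where
  φQ := G.map (syzMap P P' f φ comm)
  φH := kernel.map _ _ (G.map (syzMap P P' f φ comm)) (G.map (φ.f 0)) (map_syzι_comm G P P' f φ comm)
  commp := by
    show G.map (dLift P) ≫ G.map (syzMap P P' f φ comm) = G.map (φ.f 1) ≫ G.map (dLift P')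
    rw [← G.map_comp, ← G.map_comp, dLift_syzMap]
  commg' := by
    rw [rhdOne_g', rhdOne_g']
    exact (map_syzι_comm G P P' f φ comm).symm
  commι := by
    show kernel.map _ _ _ _ _ ≫ kernel.ι _ = kernel.ι _ ≫ _
    exact kernel.lift_ι _ _ _

/-- `L₁ G (X) ≅ ker (G (syz P) ⟶ G P₀)` -/
noncomputable def oL : (G.leftDerived 1).obj X ≅ kernel (G.map (syzι P)) :=
  P.isoLeftDerivedObj G 1 ≪≫
    (HomologicalComplex.homologyFunctorIso' D (ComplexShape.down ℕ) 2 1 0 (by simp) (by simp)).app
      ((G.mapHomologicalComplex _).obj P.complex) ≪≫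
    (rhdOne G P).homologyIso

lemma oL_nat :
    (G.leftDerived 1).map f ≫ (oL G P').hom ≫ kernel.ι _ =
      (oL G P).hom ≫ kernel.ι _ ≫ G.map (syzMap P P' f φ comm) := by
  have h1 := ProjectiveResolution.isoLeftDerivedObj_hom_naturality f P P' φ comm G 1
  have h2 := (HomologicalComplex.homologyFunctorIso' D (ComplexShape.down ℕ) 2 1 0
    (by simp) (by simp)).hom.naturality ((G.mapHomologicalComplex _).map φ)
  have h3 := (rhmdOne G P P' f φ comm).homologyMap_comm
  have h4 : kernel.map _ _ (G.map (syzMap P P' f φ comm)) (G.map (φ.f 0))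
      (map_syzι_comm G P P' f φ comm) ≫ kernel.ι _ = kernel.ι _ ≫ G.map (syzMap P P' f φ comm) :=
    kernel.lift_ι _ _ _
  simp only [Functor.comp_map] at h1 h2
  simp only [oL, Iso.trans_hom, Iso.app_hom, Category.assoc]
  rw [reassoc_of% h1, reassoc_of% h2]
  congr 2
  rw [← h4]
  exact (Category.assoc _ _ _).symm.trans ((congrArg (· ≫ kernel.ι _) h3).trans
    (Category.assoc _ _ _))

end One

section NatTransCompat
variable {G} {G₂ : C ⥤ D} [G₂.Additive] (γ : G ⟶ G₂)
variable {X : C} (P : ProjectiveResolution X)

lemma mapTruncResIso_natTrans :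
    (NatTrans.mapHomologicalComplex γ _).app (truncRes P).complex ≫ (mapTruncResIso G₂ P).hom =
      (mapTruncResIso G P).hom ≫
        ChainComplex.truncate.map ((NatTrans.mapHomologicalComplex γ _).app P.complex) := by
  ext i
  exact (Category.comp_id _).trans (Category.id_comp _).symm

lemma sL_natTrans (n : ℕ) :
    (NatTrans.leftDerived γ (n + 2)).app X ≫ (sL G₂ P n).hom =
      (sL G P n).hom ≫ (NatTrans.leftDerived γ (n + 1)).app (syz P) := by
  have h3 := (truncHomologyNatIso D n).inv.naturality
    ((NatTrans.mapHomologicalComplex γ _).app P.complex)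
  have h4 : (HomologicalComplex.homologyFunctor D _ (n + 1)).map
        (ChainComplex.truncate.map ((NatTrans.mapHomologicalComplex γ _).app P.complex)) ≫
      (HomologicalComplex.homologyFunctor D _ (n + 1)).map (mapTruncResIso G₂ P).inv =
      (HomologicalComplex.homologyFunctor D _ (n + 1)).map (mapTruncResIso G P).inv ≫
      (HomologicalComplex.homologyFunctor D _ (n + 1)).map
        ((NatTrans.mapHomologicalComplex γ _).app (truncRes P).complex) := by
    rw [← Functor.map_comp, ← Functor.map_comp]
    congr 1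
    rw [← cancel_mono (mapTruncResIso G₂ P).hom, Category.assoc, Iso.inv_hom_id,
      Category.comp_id, Category.assoc, mapTruncResIso_natTrans, Iso.inv_hom_id_assoc]
  rw [ProjectiveResolution.leftDerived_app_eq γ P (n + 2),
    ProjectiveResolution.leftDerived_app_eq γ (truncRes P) (n + 1)]
  simp only [sL, Iso.trans_hom, Iso.symm_hom, Functor.mapIso_inv, Iso.app_inv, Category.assoc,
    Iso.inv_hom_id_assoc]
  simp only [Functor.comp_map] at h3
  rw [reassoc_of% h3, reassoc_of% h4]

variable [PreservesFiniteColimits G] [PreservesFiniteColimits G₂]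

/-- the map of short complexes induced by a natural transformation -/
noncomputable abbrev scOneNatTrans : scOne G P ⟶ scOne G₂ P :=
  (HomologicalComplex.shortComplexFunctor' D (ComplexShape.down ℕ) 2 1 0).map
    ((NatTrans.mapHomologicalComplex γ (ComplexShape.down ℕ)).app P.complex)

/-- right homology map data for a natural transformation -/
noncomputable def rhmdOneNatTrans : ShortComplex.RightHomologyMapData (scOneNatTrans γ P)
    (rhdOne G P) (rhdOne G₂ P) where
  φQ := γ.app (syz P)
  φH := kernel.map _ _ (γ.app (syz P)) (γ.app (P.complex.X 0)) (γ.naturality (syzι P))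
  commp := γ.naturality (dLift P)
  commg' := by
    rw [rhdOne_g', rhdOne_g']
    exact (γ.naturality (syzι P)).symm
  commι := by
    show kernel.map _ _ _ _ _ ≫ kernel.ι _ = kernel.ι _ ≫ _
    exact kernel.lift_ι _ _ _

lemma oL_natTrans :
    (NatTrans.leftDerived γ 1).app X ≫ (oL G₂ P).hom ≫ kernel.ι _ =
      (oL G P).hom ≫ kernel.ι _ ≫ γ.app (syz P) := by
  have h2 := (HomologicalComplex.homologyFunctorIso' D (ComplexShape.down ℕ) 2 1 0
    (by simp) (by simp)).hom.naturality ((NatTrans.mapHomologicalComplex γ _).app P.complex)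
  have h3 := (rhmdOneNatTrans γ P).homologyMap_comm
  have h4 : kernel.map _ _ (γ.app (syz P)) (γ.app (P.complex.X 0)) (γ.naturality (syzι P)) ≫
      kernel.ι _ = kernel.ι _ ≫ γ.app (syz P) :=
    kernel.lift_ι _ _ _
  rw [ProjectiveResolution.leftDerived_app_eq γ P 1]
  simp only [Functor.comp_map] at h2
  simp only [oL, Iso.trans_hom, Iso.app_hom, Category.assoc, Iso.inv_hom_id_assoc]
  rw [reassoc_of% h2]
  congr 2
  rw [← h4]
  exact (Category.assoc _ _ _).symm.trans ((congrArg (· ≫ kernel.ι _) h3).trans
    (Category.assoc _ _ _))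

end NatTransCompat

end Groth.Agent.Helper9.Bal
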