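import Mathlib
import Groth.Agent.Lib.Helper9.Bal.Boot
import Groth.Agent.Lib.Helper9.Bal.LSide

/-!
# Effaceable exact complex-valued functors compute derived functors (helper9)

If `U : C ⥤ ChainComplex D ℕ` is additive, sends short exact sequences to short exact sequences of
complexes and `U P` is exact in positive degrees for projective `P`, then
`U ⋙ Hₙ ≅ (U ⋙ H₀).leftDerived n`.
-/

universe v v' u u'

open CategoryTheory Limits Groth.Agent.Helper1.TorBal

namespace Groth.Agent.Helper9.Bal

variable {C : Type u} [Category.{v} C] [Abelian C] [HasProjectiveResolutions C]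
  {D : Type u'} [Category.{v'} D] [Abelian D]

/-- effaceable exact complex-valued functor -/
structure IsEff (U : C ⥤ ChainComplex D ℕ) [U.Additive] : Prop where
  shortExact : ∀ S : ShortComplex C, S.ShortExact → (S.map U).ShortExact
  exactAt : ∀ (P : C) [Projective P] (n : ℕ), (U.obj P).ExactAt (n + 1)

/-- `Hₙ ∘ U` -/
noncomputable abbrev TT (U : C ⥤ ChainComplex D ℕ) (n : ℕ) : C ⥤ D :=
  U ⋙ HomologicalComplex.homologyFunctor D (ComplexShape.down ℕ) n

variable {U : C ⥤ ChainComplex D ℕ} [U.Additive] (hU : IsEff U)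

section TSide
variable {X X' : C} (P : ProjectiveResolution X) (P' : ProjectiveResolution X') (f : X ⟶ X')
  (φ : P.complex ⟶ P'.complex) (comm : φ.f 0 ≫ P'.π.f 0 = P.π.f 0 ≫ f)

include hU in
lemma syzSC_map_shortExact : ((syzSC P).map U).ShortExact :=
  hU.shortExact _ (syzSC_shortExact P)

include hU in
lemma isZero_homology_X₂ (n : ℕ) : IsZero (((syzSC P).map U).X₂.homology (n + 1)) := by
  have : Projective (P.complex.X 0) := P.projective 0
  exact (hU.exactAt (P.complex.X 0) n).isZero_homology

/-- `T_{n+2}(X) ≅ T_{n+1}(syz P)` -/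
noncomputable def sT (n : ℕ) : (TT U (n + 2)).obj X ≅ (TT U (n + 1)).obj (syz P) :=
  (syzSC_map_shortExact hU P).δIso (n + 2) (n + 1) (by simp)
    (isZero_homology_X₂ hU P (n + 1)) (isZero_homology_X₂ hU P n)

lemma sT_hom (n : ℕ) :
    (sT hU P n).hom = (syzSC_map_shortExact hU P).δ (n + 2) (n + 1) (by simp) := rfl

lemma sT_nat (n : ℕ) :
    (TT U (n + 2)).map f ≫ (sT hU P' n).hom =
      (sT hU P n).hom ≫ (TT U (n + 1)).map (syzMap P P' f φ comm) := by
  rw [sT_hom, sT_hom]
  exact (HomologicalComplex.HomologySequence.δ_naturality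
    (U.mapShortComplex.map (syzSCMap P P' f φ comm))
    (syzSC_map_shortExact hU P) (syzSC_map_shortExact hU P') (n + 2) (n + 1) (by simp)).symm

/-- `T₁(X) ≅ ker (T₀ (syz P) ⟶ T₀ P₀)` -/
noncomputable def oT : (TT U 1).obj X ≅ kernel ((TT U 0).map (syzι P)) := by
  have hS := syzSC_map_shortExact hU P
  have hex := hS.homology_exact₁ 1 0 (by simp)
  haveI : Mono (ShortComplex.mk (hS.δ 1 0 (by simp))
      (HomologicalComplex.homologyMap ((syzSC P).map U).f 0) (hS.δ_comp 1 0 (by simp))).f :=
    hS.mono_δ 1 0 (by simp) (isZero_homology_X₂ hU P 0)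
  exact IsLimit.conePointUniqueUpToIso
    (t := KernelFork.ofι (kernel.ι ((TT U 0).map (syzι P))) (kernel.condition _))
    hex.fIsKernel (kernelIsKernel ((TT U 0).map (syzι P)))

lemma oT_hom_ι :
    (oT hU P).hom ≫ kernel.ι ((TT U 0).map (syzι P)) =
      (syzSC_map_shortExact hU P).δ 1 0 (by simp) := by
  unfold oT
  exact IsLimit.conePointUniqueUpToIso_hom_comp _ _ WalkingParallelPair.zero

lemma oT_nat :
    (TT U 1).map f ≫ (oT hU P').hom ≫ kernel.ι _ =
      (oT hU P).hom ≫ kernel.ι _ ≫ (TT U 0).map (syzMap P P' f φ comm) := by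
  rw [oT_hom_ι, ← Category.assoc, oT_hom_ι]
  exact (HomologicalComplex.HomologySequence.δ_naturality
    (U.mapShortComplex.map (syzSCMap P P' f φ comm))
    (syzSC_map_shortExact hU P) (syzSC_map_shortExact hU P') 1 0 (by simp)).symm

end TSide

section Main

include hU in
lemma preservesFiniteColimits_TT_zero : PreservesFiniteColimits (TT U 0) := by
  apply ((Functor.preservesFiniteColimits_tfae (TT U 0)).out 0 3).1
  intro S hS
  have hSU := hU.shortExact S hS
  refine ⟨hSU.homology_exact₂ 0, ?_⟩
  have := hSU.epi_g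
  have : Epi ((U.map S.g).f 0) := inferInstanceAs (Epi ((S.map U).g.f 0))
  exact HomologicalComplex.epi_homologyMap_of_epi_of_not_rel (U.map S.g) 0 (by simp)

/-- chosen syzygy -/
noncomputable def K (X : C) : C := syz (projectiveResolution X)

/-- chosen (non-functorial) action on morphisms -/
noncomputable def κ {X X' : C} (f : X ⟶ X') : K X ⟶ K X' :=
  syzMap _ _ f (ProjectiveResolution.lift f _ _) (ProjectiveResolution.lift_commutes_zero f _ _)

/-- the kernel object -/
noncomputable def ZK (G : C ⥤ D) [G.PreservesZeroMorphisms] (X : C) : D :=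
  kernel (G.map (syzι (projectiveResolution X)))

/-- the kernel inclusion -/
noncomputable def mK (G : C ⥤ D) [G.PreservesZeroMorphisms] (X : C) : ZK G X ⟶ G.obj (K X) :=
  kernel.ι _

instance (G : C ⥤ D) [G.PreservesZeroMorphisms] (X : C) : Mono (mK G X) := by
  unfold mK; exact equalizer.ι_mono

/-- shift data of the homology functors of `U` -/
noncomputable def shiftT : ShiftData (K (C := C)) κ (TT U 0) (ZK (TT U 0)) (mK (TT U 0))
    (fun n => TT U (n + 1)) where
  o X := oT hU (projectiveResolution X)
  o_nat f := oT_nat hU _ _ f _ _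
  s n X := sT hU (projectiveResolution X) n
  s_nat n _ _ f := sT_nat hU _ _ f _ _ n

/-- shift data of the left derived functors -/
noncomputable def shiftL (G : C ⥤ D) [G.Additive] [PreservesFiniteColimits G] :
    ShiftData (K (C := C)) κ G (ZK G) (mK G) (fun n => G.leftDerived (n + 1)) where
  o X := oL G (projectiveResolution X)
  o_nat f := oL_nat G _ _ f _ _
  s n X := sL G (projectiveResolution X) n
  s_nat n _ _ f := sL_nat G _ _ f _ _ n

/-- **Main theorem**: the homology functors of an effaceable exact complex-valued functor are the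
left derived functors of its `H₀`. -/
noncomputable def effIso : ∀ n : ℕ, TT U n ≅ (TT U 0).leftDerived n
  | 0 =>
    haveI := preservesFiniteColimits_TT_zero hU
    ((TT U 0).leftDerivedZeroIsoSelf).symm
  | (n + 1) =>
    haveI := preservesFiniteColimits_TT_zero hU
    ShiftData.boot (shiftT hU) (shiftL (TT U 0)) n

end Main

section NatTransCompat
variable {U' : C ⥤ ChainComplex D ℕ} [U'.Additive] (hU' : IsEff U') (τ : U ⟶ U')
variable {X : C} (P : ProjectiveResolution X)

/-- the induced transformation on homology functors -/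
noncomputable abbrev ttMap (n : ℕ) : TT U n ⟶ TT U' n :=
  Functor.whiskerRight τ (HomologicalComplex.homologyFunctor D (ComplexShape.down ℕ) n)

lemma sT_natTrans (n : ℕ) :
    (ttMap τ (n + 2)).app X ≫ (sT hU' P n).hom =
      (sT hU P n).hom ≫ (ttMap τ (n + 1)).app (syz P) := by
  rw [sT_hom, sT_hom]
  exact (HomologicalComplex.HomologySequence.δ_naturality
    ((syzSC P).mapNatTrans τ)
    (syzSC_map_shortExact hU P) (syzSC_map_shortExact hU' P) (n + 2) (n + 1) (by simp)).symm

lemma oT_natTrans :
    (ttMap τ 1).app X ≫ (oT hU' P).hom ≫ kernel.ι _ =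
      (oT hU P).hom ≫ kernel.ι _ ≫ (ttMap τ 0).app (syz P) := by
  rw [oT_hom_ι, ← Category.assoc, oT_hom_ι]
  exact (HomologicalComplex.HomologySequence.δ_naturality
    ((syzSC P).mapNatTrans τ)
    (syzSC_map_shortExact hU P) (syzSC_map_shortExact hU' P) 1 0 (by simp)).symm

/-- **Naturality of `effIso` in the functor `U`.** -/
theorem effIso_nat : ∀ n : ℕ,
    ttMap τ n ≫ (effIso hU' n).hom = (effIso hU n).hom ≫ NatTrans.leftDerived (ttMap τ 0) n := by
  intro n
  haveI := preservesFiniteColimits_TT_zero hU
  haveI := preservesFiniteColimits_TT_zero hU'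
  cases n with
  | zero =>
    ext X
    simp only [effIso, Iso.symm_hom, NatTrans.comp_app]
    rw [← cancel_mono ((TT U' 0).fromLeftDerivedZero.app X), Category.assoc, Category.assoc,
      Functor.leftDerivedZeroIsoSelf_inv_hom_id_app, Category.comp_id,
      Groth.Agent.Helper1.TorL.fromLeftDerivedZero_naturality_natTrans,
      Functor.leftDerivedZeroIsoSelf_inv_hom_id_app_assoc]
  | succ n =>
    exact ShiftData.boot_nat (shiftT hU) (shiftL (TT U 0)) (shiftT hU') (shiftL (TT U' 0))
      (ttMap τ 0) (fun n => ttMap τ (n + 1)) (fun n => NatTrans.leftDerived (ttMap τ 0) (n + 1))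
      (fun X => oT_natTrans hU hU' τ (projectiveResolution X))
      (fun X => oL_natTrans (ttMap τ 0) (projectiveResolution X))
      (fun n X => sT_natTrans hU hU' τ (projectiveResolution X) n)
      (fun n X => sL_natTrans (ttMap τ 0) (projectiveResolution X) n) n

end NatTransCompat

end Groth.Agent.Helper9.Bal
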