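import Mathlib
import Groth.Agent.Lib.Helper9.Bal.Main
import Groth.Agent.Lib.Helper1.TorFilt

/-!
# Balancing of Tor, naturally in one variable (helper9)

`torSymmIso N n : (Tor n).flip.obj N ≅ (Tor n).obj N`.
-/

universe u

open CategoryTheory Limits MonoidalCategory
open Groth.Agent.Helper1.TorL Groth.Agent.Helper1.TorFilt Groth.Agent.Helper1.TorNat

namespace Groth.Agent.Helper9.Bal

variable {R : Type u} [CommRing R]

/-- naturality of left derived functors in the functor -/
noncomputable def leftDerivedMapIso {C D : Type*} [Category C] [Category D] [Abelian C]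
    [HasProjectiveResolutions C] [Abelian D] {F G : C ⥤ D} [F.Additive] [G.Additive] (e : F ≅ G)
    (n : ℕ) : F.leftDerived n ≅ G.leftDerived n where
  hom := NatTrans.leftDerived e.hom n
  inv := NatTrans.leftDerived e.inv n
  hom_inv_id := by rw [← NatTrans.leftDerived_comp, e.hom_inv_id, NatTrans.leftDerived_id]
  inv_hom_id := by rw [← NatTrans.leftDerived_comp, e.inv_hom_id, NatTrans.leftDerived_id]

instance tensCxFunctor_additive (Q : ChainComplex (ModuleCat.{u} R) ℕ) :
    (tensCxFunctor Q).Additive where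
  map_add {X Y f g} := by
    ext i : 1
    show (f + g) ▷ Q.X i = f ▷ Q.X i + g ▷ Q.X i
    exact MonoidalPreadditive.add_whiskerRight _ _

theorem isEff_tensCxFunctor {N : ModuleCat.{u} R} (Q : ProjectiveResolution N) :
    IsEff (tensCxFunctor Q.complex) where
  shortExact S hS := tensSC_shortExact S hS Q.complex (flat_res Q)
  exactAt P _ n := by
    have := flat_of_projective P
    exact tensCx_exactAt_succ P Q n

/-- `Tor₀(-, N) ≅ - ⊗ N` -/
noncomputable def tor0FlipIso (N : ModuleCat.{u} R) :
    (Tor (ModuleCat.{u} R) 0).flip.obj N ≅ tensorRight N :=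
  NatIso.ofComponents (fun X => tor0Iso X N) (fun f => tor0Iso_naturality f N)

/-- `H₀(- ⊗ Q_N) ≅ - ⊗ N` -/
noncomputable def ttZeroIso (N : ModuleCat.{u} R) :
    TT (tensCxFunctor (projectiveResolution N).complex) 0 ≅ tensorRight N :=
  (torFlipIso N 0).symm ≪≫ tor0FlipIso N

/-- **Balancing of Tor**, natural in the remaining variable. -/
noncomputable def torSymmIso (N : ModuleCat.{u} R) (n : ℕ) :
    (Tor (ModuleCat.{u} R) n).flip.obj N ≅ (Tor (ModuleCat.{u} R) n).obj N :=
  torFlipIso N n ≪≫ effIso (isEff_tensCxFunctor (projectiveResolution N)) n ≪≫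
    leftDerivedMapIso (ttZeroIso N) n ≪≫
    (leftDerivedMapIso (BraidedCategory.tensorLeftIsoTensorRight N).symm n :
      (tensorRight N).leftDerived n ≅ (tensorLeft N).leftDerived n)

end Groth.Agent.Helper9.Bal
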