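import Mathlib
import Groth.Agent.Lib.Helper9.Bal.TorApp
import Groth.Agent.Lib.Helper1.TorBalNat

/-!
# Balancing of Tor as an isomorphism of bifunctors (helper9)
-/

universe u

open CategoryTheory Limits MonoidalCategory
open Groth.Agent.Helper1.TorL Groth.Agent.Helper1.TorFilt Groth.Agent.Helper1.TorNat
  Groth.Agent.Helper1.TorBal Groth.Agent.Helper1.TorBalNat

namespace Groth.Agent.Helper9.Bal

variable {R : Type u} [CommRing R]

section
variable {N N' : ModuleCat.{u} R} (g : N ⟶ N')

/-- the chosen lift of `g` to the chosen resolutions -/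
noncomputable def liftRes : (projectiveResolution N).complex ⟶ (projectiveResolution N').complex :=
  ProjectiveResolution.lift g _ _

lemma liftRes_comm :
    (liftRes g).f 0 ≫ (projectiveResolution N').π.f 0 = (projectiveResolution N).π.f 0 ≫ g :=
  ProjectiveResolution.lift_commutes_zero g _ _

/-- the natural transformation `- ⊗ Q_N ⟶ - ⊗ Q_N'` -/
noncomputable def tensCxNatTrans {Q Q' : ChainComplex (ModuleCat.{u} R) ℕ} (ψ : Q ⟶ Q') :
    tensCxFunctor Q ⟶ tensCxFunctor Q' where
  app X := tensCxMap₂ X ψ
  naturality _ _ f := tensCxMap_comm f ψ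

/-- step (1): naturality of `torFlipIso` -/
lemma torFlipIso_nat (n : ℕ) :
    (Tor (ModuleCat.{u} R) n).flip.map g ≫ (torFlipIso N' n).hom =
      (torFlipIso N n).hom ≫ ttMap (tensCxNatTrans (liftRes g)) n := by
  apply NatTrans.ext
  funext X
  exact tor_map_hom₂ X g _ _ (liftRes g) (liftRes_comm g) n

/-- naturality of `tor0FlipIso` -/
lemma tor0FlipIso_nat :
    (Tor (ModuleCat.{u} R) 0).flip.map g ≫ (tor0FlipIso N').hom =
      (tor0FlipIso N).hom ≫ (tensoringRight (ModuleCat.{u} R)).map g := by
  apply NatTrans.ext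
  funext X
  exact tor0Iso_naturality₂ X g

/-- step (3) -/
lemma ttZeroIso_nat :
    ttMap (tensCxNatTrans (liftRes g)) 0 ≫ (ttZeroIso N').hom =
      (ttZeroIso N).hom ≫ (tensoringRight (ModuleCat.{u} R)).map g := by
  have h1 := torFlipIso_nat g 0
  have h2 := tor0FlipIso_nat g
  simp only [ttZeroIso, Iso.trans_hom, Iso.symm_hom]
  rw [Category.assoc, ← h2, ← Category.assoc, ← Category.assoc]
  congr 1
  rw [Iso.eq_inv_comp, ← Category.assoc, ← h1, Category.assoc, Iso.hom_inv_id, Category.comp_id]

/-- step (4) -/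
lemma braid_nat :
    (tensoringRight (ModuleCat.{u} R)).map g ≫ (BraidedCategory.tensorLeftIsoTensorRight N').inv =
      (BraidedCategory.tensorLeftIsoTensorRight N).inv ≫
        (tensoringLeft (ModuleCat.{u} R)).map g := by
  apply NatTrans.ext
  funext X
  have h := BraidedCategory.braiding_naturality_left g X
  show X ◁ g ≫ (β_ N' X).inv = (β_ N X).inv ≫ g ▷ X
  rw [Iso.comp_inv_eq, Category.assoc, Iso.eq_inv_comp]
  exact h.symm

/-- **Naturality of the balancing isomorphism in the second variable.** -/
theorem torSymmIso_nat (n : ℕ) :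
    (Tor (ModuleCat.{u} R) n).flip.map g ≫ (torSymmIso N' n).hom =
      (torSymmIso N n).hom ≫ (Tor (ModuleCat.{u} R) n).map g := by
  have h1 := torFlipIso_nat g n
  have h2 := effIso_nat (isEff_tensCxFunctor (projectiveResolution N))
    (isEff_tensCxFunctor (projectiveResolution N')) (tensCxNatTrans (liftRes g)) n
  have h3 : NatTrans.leftDerived (ttMap (tensCxNatTrans (liftRes g)) 0) n ≫
      (leftDerivedMapIso (ttZeroIso N') n).hom =
      (leftDerivedMapIso (ttZeroIso N) n).hom ≫
        NatTrans.leftDerived ((tensoringRight (ModuleCat.{u} R)).map g) n := by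
    show NatTrans.leftDerived _ n ≫ NatTrans.leftDerived _ n =
      NatTrans.leftDerived _ n ≫ NatTrans.leftDerived _ n
    rw [← NatTrans.leftDerived_comp, ← NatTrans.leftDerived_comp, ttZeroIso_nat]
  have h4 : NatTrans.leftDerived ((tensoringRight (ModuleCat.{u} R)).map g) n ≫
      (leftDerivedMapIso (BraidedCategory.tensorLeftIsoTensorRight N').symm n :
        (tensorRight N').leftDerived n ≅ (tensorLeft N').leftDerived n).hom =
      (leftDerivedMapIso (BraidedCategory.tensorLeftIsoTensorRight N).symm n :
        (tensorRight N).leftDerived n ≅ (tensorLeft N).leftDerived n).hom ≫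
        NatTrans.leftDerived ((tensoringLeft (ModuleCat.{u} R)).map g) n := by
    show NatTrans.leftDerived _ n ≫ NatTrans.leftDerived _ n =
      NatTrans.leftDerived _ n ≫ NatTrans.leftDerived _ n
    rw [← NatTrans.leftDerived_comp, ← NatTrans.leftDerived_comp]
    congr 1
    exact braid_nat g
  simp only [torSymmIso, Iso.trans_hom, Category.assoc]
  rw [reassoc_of% h1, reassoc_of% h2, reassoc_of% h3]
  congr 3

end

/-- **Tor is symmetric**, as an isomorphism of bifunctors. -/
noncomputable def torFlipBiIso (n : ℕ) :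
    (Tor (ModuleCat.{u} R) n).flip ≅ Tor (ModuleCat.{u} R) n :=
  NatIso.ofComponents (fun N => torSymmIso N n) (fun g => torSymmIso_nat g n)

end Groth.Agent.Helper9.Bal
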