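import Mathlib
import Groth.Agent.Lib.Helper9.Bal.TorApp
import Groth.Agent.Lib.Helper1.TorLES2

/-!
# Flat resolutions compute Tor (helper9)
-/

universe u

open CategoryTheory Limits MonoidalCategory
open Groth.Agent.Helper1.TorL Groth.Agent.Helper1.TorBalNat Groth.Agent.Helper1.TorLES2

namespace Groth.Agent.Helper9.Bal

variable {R : Type u} [CommRing R]

instance tensCxFunctorR_additive (F : ChainComplex (ModuleCat.{u} R) ℕ) :
    (tensCxFunctorR F).Additive where
  map_add {X Y f g} := by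
    ext i : 1
    show F.X i ◁ (f + g) = F.X i ◁ f + F.X i ◁ g
    exact MonoidalPreadditive.whiskerLeft_add _ _

section
variable (F : ChainComplex (ModuleCat.{u} R) ℕ) (hF : ∀ i : ℕ, Module.Flat R (F.X i))
  (M : ModuleCat.{u} R) (φ : F ⟶ (ChainComplex.single₀ (ModuleCat.{u} R)).obj M) [QuasiIso φ]

include φ in
lemma exactAt_succ_of_quasiIso (n : ℕ) : F.ExactAt (n + 1) :=
  (quasiIsoAt_iff_exactAt' φ (n + 1) (ChainComplex.exactAt_succ_single_obj _ n)).1 inferInstance

include hF φ in
theorem isEff_tensCxFunctorR : IsEff (tensCxFunctorR F) where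
  shortExact S hS := tensSCR_shortExact F hF S hS
  exactAt P _ n := by
    have := flat_of_projective P
    have h := exactAt_succ_of_quasiIso F M φ n
    rw [HomologicalComplex.exactAt_iff' _ (n + 2) (n + 1) n (by simp) (by simp)] at h ⊢
    exact Module.Flat.rTensor_shortComplex_exact P _ h

/-- the augmentation -/
noncomputable def aug : F.X 0 ⟶ M := φ.f 0

lemma d_aug : F.d 1 0 ≫ aug F M φ = 0 := by
  have := φ.comm 1 0
  simp only [ChainComplex.single₀_obj_zero, HomologicalComplex.single_obj_d, comp_zero] at this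
  exact this.symm ▸ rfl

include φ in
lemma aug_exact_epi :
    (ShortComplex.mk (F.d 1 0) (aug F M φ) (d_aug F M φ)).Exact ∧ Epi (aug F M φ) := by
  have h : QuasiIsoAt φ 0 := inferInstance
  rw [ChainComplex.quasiIsoAt₀_iff, ShortComplex.quasiIso_iff_of_zeros'] at h
  · exact h
  · exact F.shape _ _ (by simp)
  · rfl
  · rfl

/-- `aug ⊗ Y` is a cokernel of `d₁ ⊗ Y` -/
noncomputable def isColimitAugTensor (Y : ModuleCat.{u} R) :
    IsColimit (CokernelCofork.ofπ (f := F.d 1 0 ▷ Y) (aug F M φ ▷ Y) (by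
      rw [← comp_whiskerRight, d_aug, MonoidalPreadditive.zero_whiskerRight])) := by
  obtain ⟨hex, hepi⟩ := aug_exact_epi F M φ
  have h1 := (ShortComplex.ShortExact.moduleCat_exact_iff_function_exact _).mp hex
  have hsurj : Function.Surjective (aug F M φ).hom := (ModuleCat.epi_iff_surjective _).mp hepi
  let S : ShortComplex (ModuleCat.{u} R) :=
    ShortComplex.mk (F.d 1 0 ▷ Y) (aug F M φ ▷ Y) (by
      rw [← comp_whiskerRight, d_aug, MonoidalPreadditive.zero_whiskerRight])
  have hS : S.Exact :=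
    (ShortComplex.ShortExact.moduleCat_exact_iff_function_exact _).mpr (rTensor_exact Y h1 hsurj)
  haveI : Epi S.g :=
    (ModuleCat.epi_iff_surjective _).mpr (LinearMap.rTensor_surjective Y hsurj)
  exact hS.gIsCokernel

/-- `H₀(F ⊗ Y) ≅ M ⊗ Y` -/
noncomputable def h0IsoApp (Y : ModuleCat.{u} R) :
    (TT (tensCxFunctorR F) 0).obj Y ≅ (tensorLeft M).obj Y :=
  ChainComplex.isoHomologyι₀ ((tensCxFunctorR F).obj Y) ≪≫
    IsColimit.coconePointUniqueUpToIso
      (((tensCxFunctorR F).obj Y).opcyclesIsCokernel 1 0 (by simp)) (isColimitAugTensor F M φ Y)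

lemma p_h0IsoApp (Y : ModuleCat.{u} R) :
    ((tensCxFunctorR F).obj Y).pOpcycles 0 ≫
      (IsColimit.coconePointUniqueUpToIso
        (((tensCxFunctorR F).obj Y).opcyclesIsCokernel 1 0 (by simp))
        (isColimitAugTensor F M φ Y)).hom = aug F M φ ▷ Y :=
  IsColimit.comp_coconePointUniqueUpToIso_hom
    (((tensCxFunctorR F).obj Y).opcyclesIsCokernel 1 0 (by simp)) (isColimitAugTensor F M φ Y)
    WalkingParallelPair.one

/-- `H₀(F ⊗ -) ≅ M ⊗ -` -/
noncomputable def h0Iso : TT (tensCxFunctorR F) 0 ≅ tensorLeft M :=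
  NatIso.ofComponents (h0IsoApp F M φ) (by
    intro Y Y' g
    dsimp only [h0IsoApp, Iso.trans_hom, Functor.comp_map]
    have h1 : HomologicalComplex.homologyMap ((tensCxFunctorR F).map g) 0 ≫
        (ChainComplex.isoHomologyι₀ ((tensCxFunctorR F).obj Y')).hom =
        (ChainComplex.isoHomologyι₀ ((tensCxFunctorR F).obj Y)).hom ≫
          HomologicalComplex.opcyclesMap ((tensCxFunctorR F).map g) 0 :=
      HomologicalComplex.homologyι_naturality _ 0
    erw [reassoc_of% h1]
    rw [Category.assoc]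
    congr 1
    rw [← cancel_epi (((tensCxFunctorR F).obj Y).pOpcycles 0)]
    rw [HomologicalComplex.p_opcyclesMap_assoc, p_h0IsoApp, reassoc_of% (p_h0IsoApp F M φ Y)]
    exact whisker_exchange (aug F M φ) g)

end

end Groth.Agent.Helper9.Bal
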